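import Groth.Agent.Lib.NoethTop.Spectral
import Mathlib.Topology.Connected.Clopen
import Mathlib.Topology.Separation.Basic
import Mathlib.Order.Disjointed

/-!
# Clopen decompositions of spectral spaces

Lifting of decompositions of a closed subset met connectedly by all closures of points, quasi
components, and refinement of open covers by clopen partitions.
-/

universe u

open Topology TopologicalSpace Set GrothLib.SpecSp

namespace GrothLib.SpecRefine

variable {X : Type u} [TopologicalSpace X] [SpectralSpace X]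

/-- The points all of whose specializations in `Z` lie in a closed piece form a closed set. -/
theorem isClosed_piece {Z Z₁ Z₂ : Set X} (h₁ : IsClosed Z₁) (h₂ : IsClosed Z₂)
    (hdisj : Disjoint Z₁ Z₂) (hunion : Z₁ ∪ Z₂ = Z)
    (hconn : ∀ x : X, IsConnected (Z ∩ closure {x})) :
    IsClosed {x | ∃ z ∈ Z₁, x ⤳ z} := by
  refine isClosed_of_stableUnderSpecialization ?_ ?_
  · rw [exists_sInter_eq_of_isCompact h₁.isCompact, sInter_eq_iInter]
    exact @isClosed_iInter X _ (constructibleTopology X) _ fun U => (isClopen_cons U.2.1 U.2.2.1).1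
  · rintro x y hxy ⟨z, hz, hxz⟩
    obtain ⟨w, hwZ, hw⟩ := (hconn y).nonempty
    have hxw : x ⤳ w := hxy.trans (specializes_iff_mem_closure.2 hw)
    rw [← hunion] at hwZ
    rcases hwZ with hw₁ | hw₂
    · exact ⟨w, hw₁, specializes_iff_mem_closure.2 hw⟩
    · exfalso
      obtain ⟨v, -, hv₁, hv₂⟩ := isPreconnected_closed_iff.1 (hconn x).isPreconnected Z₁ Z₂ h₁ h₂
        (inter_subset_left.trans hunion.ge)
        ⟨z, ⟨hunion ▸ Or.inl hz, specializes_iff_mem_closure.1 hxz⟩, hz⟩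
        ⟨w, ⟨hunion ▸ Or.inr hw₂, specializes_iff_mem_closure.1 hxw⟩, hw₂⟩
      exact hdisj.le_bot ⟨hv₁, hv₂⟩

/-- Decompositions of a closed subset met connectedly by all closures of points lift. -/
theorem decomposition_lifts {Z Z₁ Z₂ : Set X} (h₁ : IsClosed Z₁) (h₂ : IsClosed Z₂)
    (hdisj : Disjoint Z₁ Z₂) (hunion : Z₁ ∪ Z₂ = Z)
    (hconn : ∀ x : X, IsConnected (Z ∩ closure {x})) :
    ∃ X₁ X₂ : Set X, IsClosed X₁ ∧ IsClosed X₂ ∧ Disjoint X₁ X₂ ∧ X₁ ∪ X₂ = univ ∧
      Z₁ = Z ∩ X₁ ∧ Z₂ = Z ∩ X₂ := by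
  have hd : Disjoint {x | ∃ z ∈ Z₁, x ⤳ z} {x | ∃ z ∈ Z₂, x ⤳ z} := by
    rw [Set.disjoint_left]
    rintro x ⟨z, hz, hxz⟩ ⟨w, hw, hxw⟩
    obtain ⟨v, -, hv₁, hv₂⟩ := isPreconnected_closed_iff.1 (hconn x).isPreconnected Z₁ Z₂ h₁ h₂
      (inter_subset_left.trans hunion.ge)
      ⟨z, ⟨hunion ▸ Or.inl hz, specializes_iff_mem_closure.1 hxz⟩, hz⟩
      ⟨w, ⟨hunion ▸ Or.inr hw, specializes_iff_mem_closure.1 hxw⟩, hw⟩
    exact hdisj.le_bot ⟨hv₁, hv₂⟩
  refine ⟨_, _, isClosed_piece h₁ h₂ hdisj hunion hconn,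
    isClosed_piece h₂ h₁ hdisj.symm ((union_comm _ _).trans hunion) hconn, hd, ?_, ?_, ?_⟩
  · refine eq_univ_of_forall fun x => ?_
    obtain ⟨w, hwZ, hw⟩ := (hconn x).nonempty
    rw [← hunion] at hwZ
    exact hwZ.imp (fun h => ⟨w, h, specializes_iff_mem_closure.2 hw⟩)
      (fun h => ⟨w, h, specializes_iff_mem_closure.2 hw⟩)
  · refine Subset.antisymm (fun x hx => ⟨hunion ▸ Or.inl hx, x, hx, specializes_rfl⟩) ?_
    rintro x ⟨hxZ, z, hz, hxz⟩
    rw [← hunion] at hxZ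
    exact hxZ.resolve_right fun h => Set.disjoint_left.1 hd ⟨z, hz, hxz⟩ ⟨x, h, specializes_rfl⟩
  · refine Subset.antisymm (fun x hx => ⟨hunion ▸ Or.inr hx, x, hx, specializes_rfl⟩) ?_
    rintro x ⟨hxZ, z, hz, hxz⟩
    rw [← hunion] at hxZ
    exact hxZ.resolve_left fun h => Set.disjoint_left.1 hd ⟨x, h, specializes_rfl⟩ ⟨z, hz, hxz⟩

theorem exists_closedPoint_specializes (x : X) : ∃ z : X, IsClosed ({z} : Set X) ∧ x ⤳ z := by
  obtain ⟨z, hz, hzc⟩ := isClosed_closure.exists_closed_singleton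
    (S := closure ({x} : Set X)) ⟨x, subset_closure rfl⟩
  exact ⟨z, hzc, specializes_iff_mem_closure.2 hz⟩

/-- Each connected component has a closed point. -/
theorem surjective_closedPoint_mk :
    Function.Surjective (fun x : {x : X // IsClosed ({x} : Set X)} => ConnectedComponents.mk x.1) := by
  intro c
  obtain ⟨x, rfl⟩ := ConnectedComponents.surjective_coe c
  obtain ⟨z, hzc, hz⟩ := exists_closedPoint_specializes x
  refine ⟨⟨z, hzc⟩, ConnectedComponents.coe_eq_coe.2 ?_⟩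
  exact (connectedComponent_eq (isClosed_connectedComponent.closure_subset_iff.2
    (singleton_subset_iff.2 mem_connectedComponent) (specializes_iff_mem_closure.1 hz))).symm

/-- The components of closed points are distinct as soon as clopens separate them. -/
theorem injective_closedPoint_mk (h : ∀ x y : X, IsClosed ({x} : Set X) → IsClosed ({y} : Set X) →
      x ≠ y → ∃ K : Set X, IsClopen K ∧ x ∈ K ∧ y ∉ K) :
    Function.Injective (fun x : {x : X // IsClosed ({x} : Set X)} => ConnectedComponents.mk x.1) := by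
  intro a b hab
  by_contra hne
  obtain ⟨K, hK, haK, hbK⟩ := h a.1 b.1 a.2 b.2 fun e => hne (Subtype.ext e)
  refine hbK (hK.connectedComponent_subset haK ?_)
  rw [ConnectedComponents.coe_eq_coe.1 hab]
  exact mem_connectedComponent

/-- The case where closed points form a closed set and each point has a unique closed
specialization. -/
theorem bijective_of_unique_closed_specialization (h0 : IsClosed {x : X | IsClosed ({x} : Set X)})
    (huniq : ∀ x : X, ∃! z : X, IsClosed ({z} : Set X) ∧ x ⤳ z) :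
    Function.Bijective (fun x : {x : X // IsClosed ({x} : Set X)} => ConnectedComponents.mk x.1) := by
  refine ⟨injective_closedPoint_mk fun x y hx hy hxy => ?_, surjective_closedPoint_mk⟩
  let Z := {x : X | IsClosed ({x} : Set X)}
  have hnot : ¬ y ⤳ x := fun h => hxy.symm ((huniq y).unique ⟨hy, specializes_rfl⟩ ⟨hx, h⟩)
  obtain ⟨U, hU, hUc, hxU, hyU⟩ : ∃ U : Set X, IsOpen U ∧ IsCompact U ∧ x ∈ U ∧ y ∉ U := by
    by_contra! hall
    exact hnot (specializes_of_forall hall)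
  have hc : IsClosed[constructibleTopology X] (U ∩ Z) :=
    @IsClosed.inter X _ _ (constructibleTopology X) (isClopen_cons hU hUc).1 (isClosed_cons_of_isClosed h0)
  have h₁ : IsClosed (U ∩ Z) := isClosed_of_stableUnderSpecialization hc fun a b hab ha => by
    have : b ∈ ({a} : Set X) := hab.mem_closed ha.2 rfl
    rwa [mem_singleton_iff.1 this]
  obtain ⟨X₁, X₂, hX₁, hX₂, hd, hu, e₁, e₂⟩ := decomposition_lifts (Z := Z) h₁
    (h0.inter hU.isClosed_compl : IsClosed (Z ∩ Uᶜ))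
    (Set.disjoint_left.2 fun z hz hz' => hz'.2 hz.1)
    (by
      ext z
      simp only [mem_union, mem_inter_iff, mem_compl_iff]
      tauto)
    (fun w => by
      obtain ⟨z, hz, hzu⟩ := huniq w
      have : Z ∩ closure {w} = {z} := Subset.antisymm
        (fun v hv => hzu v ⟨hv.1, specializes_iff_mem_closure.2 hv.2⟩)
        (singleton_subset_iff.2 ⟨hz.1, specializes_iff_mem_closure.1 hz.2⟩)
      rw [this]
      exact isConnected_singleton)
  have hX₁o : IsOpen X₁ := by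
    rw [show X₁ = X₂ᶜ from (IsCompl.eq_compl ⟨hd, codisjoint_iff.2 hu⟩)]
    exact hX₂.isOpen_compl
  refine ⟨X₁, ⟨hX₁, hX₁o⟩, (e₁.le (⟨hxU, hx⟩ : x ∈ U ∩ Z)).2, fun h => hyU ?_⟩
  exact (e₁.ge (⟨hy, h⟩ : y ∈ Z ∩ X₁)).1

/-- Disjoint closed subsets of a set stable under generalization have disjoint open
neighbourhoods. -/
theorem exists_separated {Q A B : Set X} (hQ : StableUnderGeneralization Q) (hAQ : A ⊆ Q)
    (hA : IsClosed A) (hB : IsClosed B) (hQu : Q ⊆ A ∪ B) (hd : Disjoint A B) :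
    ∃ U V : Set X, IsOpen U ∧ IsOpen V ∧ A ⊆ U ∧ B ⊆ V ∧ Disjoint U V := by
  have hpair : ∀ a ∈ A, ∀ b ∈ B, ∃ U V : Set X, IsOpen U ∧ IsOpen V ∧ a ∈ U ∧ b ∈ V ∧ Disjoint U V := by
    intro a ha b hb
    refine (exists_or_disjoint a b).resolve_left ?_
    rintro ⟨w, hwa, hwb⟩
    rcases hQu (hQ hwa (hAQ ha)) with h | h
    · exact hd.le_bot ⟨hwb.mem_closed hA h, hb⟩
    · exact hd.le_bot ⟨ha, hwa.mem_closed hB h⟩
  have hone : ∀ a ∈ A, ∃ U V : Set X, IsOpen U ∧ IsOpen V ∧ a ∈ U ∧ B ⊆ V ∧ Disjoint U V := by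
    intro a ha
    choose U V hU hV haU hbV hdUV using fun b : B => hpair a ha b b.2
    obtain ⟨t, ht⟩ := hB.isCompact.elim_finite_subcover V hV
      (fun b hb => mem_iUnion.2 ⟨⟨b, hb⟩, hbV _⟩)
    refine ⟨⋂ b ∈ t, U b, ⋃ b ∈ t, V b, isOpen_biInter_finset fun b _ => hU b,
      isOpen_biUnion fun b _ => hV b, mem_iInter₂.2 fun b _ => haU b, ht, ?_⟩
    rw [Set.disjoint_left]
    intro z hz hz'
    obtain ⟨b, hb, hzb⟩ := mem_iUnion₂.1 hz'
    exact (hdUV b).le_bot ⟨mem_iInter₂.1 hz b hb, hzb⟩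
  choose U V hU hV haU hBV hdUV using fun a : A => hone a a.2
  obtain ⟨t, ht⟩ := hA.isCompact.elim_finite_subcover U hU (fun a ha => mem_iUnion.2 ⟨⟨a, ha⟩, haU _⟩)
  refine ⟨⋃ a ∈ t, U a, ⋂ a ∈ t, V a, isOpen_biUnion fun a _ => hU a,
    isOpen_biInter_finset fun a _ => hV a, ht, subset_iInter₂ fun a _ => hBV a, ?_⟩
  rw [Set.disjoint_left]
  intro z hz hz'
  obtain ⟨a, ha, hza⟩ := mem_iUnion₂.1 hz
  exact (hdUV a).le_bot ⟨hza, mem_iInter₂.1 hz' a ha⟩

/-- An open set containing a quasi component contains a clopen containing it. -/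
theorem exists_clopen_subset {x : X} {W : Set X} (hW : IsOpen W)
    (h : (⋂ K : {K : Set X // IsClopen K ∧ x ∈ K}, K.1) ⊆ W) :
    ∃ K : Set X, IsClopen K ∧ x ∈ K ∧ K ⊆ W := by
  haveI : Nonempty {K : Set X // IsClopen K ∧ x ∈ K} := ⟨⟨univ, isClopen_univ, trivial⟩⟩
  obtain ⟨K, hK⟩ := exists_subset_of_iInter_subset _ (fun K => ⟨K.2.1.isOpen, K.2.1.isClosed.isCompact⟩)
    (fun K L => ⟨⟨K.1 ∩ L.1, K.2.1.inter L.2.1, K.2.2, L.2.2⟩, subset_rfl⟩) hW h
  exact ⟨K.1, K.2.1, K.2.2, hK⟩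

/-- Quasi components of spectral spaces are connected components. -/
theorem iInter_clopen_eq_connectedComponent (x : X) :
    (⋂ K : {K : Set X // IsClopen K ∧ x ∈ K}, K.1) = connectedComponent x := by
  refine Subset.antisymm ?_ (subset_iInter fun K => K.2.1.connectedComponent_subset K.2.2)
  set Q := ⋂ K : {K : Set X // IsClopen K ∧ x ∈ K}, K.1 with hQdef
  have hxQ : x ∈ Q := mem_iInter.2 fun K => K.2.2
  have hQc : IsClosed Q := isClosed_iInter fun K => K.2.1.isClosed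
  have hQg : StableUnderGeneralization Q := fun a b hab ha =>
    mem_iInter.2 fun K => hab.mem_open K.2.1.isOpen (mem_iInter.1 ha K)
  refine IsPreconnected.subset_connectedComponent ?_ hxQ
  rw [isPreconnected_iff_subset_of_fully_disjoint_closed hQc]
  intro A B hA hB hu hd
  obtain ⟨U, V, hU, hV, hAU, hBV, hUV⟩ := exists_separated hQg (A := Q ∩ A) (B := Q ∩ B)
    inter_subset_left (hQc.inter hA) (hQc.inter hB)
    (fun q hq => (hu hq).imp (fun h => ⟨hq, h⟩) (fun h => ⟨hq, h⟩))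
    (hd.mono inter_subset_right inter_subset_right)
  obtain ⟨K, hK, hxK, hKsub⟩ := exists_clopen_subset (hU.union hV)
    (fun q hq => (hu hq).imp (fun h => hAU ⟨hq, h⟩) (fun h => hBV ⟨hq, h⟩) : Q ⊆ U ∪ V)
  have hclopen : ∀ U V : Set X, IsOpen U → IsOpen V → Disjoint U V → K ⊆ U ∪ V → IsClopen (K ∩ U) := by
    intro U V hU hV hUV hKsub
    refine ⟨?_, hK.isOpen.inter hU⟩
    rw [show K ∩ U = K ∩ Vᶜ from Subset.antisymm
      (fun z hz => ⟨hz.1, fun h => hUV.le_bot ⟨hz.2, h⟩⟩)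
      (fun z hz => ⟨hz.1, (hKsub hz.1).resolve_right hz.2⟩)]
    exact hK.isClosed.inter hV.isClosed_compl
  rcases hu hxQ with hxA | hxB
  · refine Or.inl fun q hq => (hu hq).resolve_right fun hqB => ?_
    exact hUV.le_bot ⟨(mem_iInter.1 hq ⟨K ∩ U, hclopen U V hU hV hUV hKsub, hxK, hAU ⟨hxQ, hxA⟩⟩).2,
      hBV ⟨hq, hqB⟩⟩
  · refine Or.inr fun q hq => (hu hq).resolve_left fun hqA => ?_
    exact hUV.le_bot ⟨hAU ⟨hq, hqA⟩, (mem_iInter.1 hq ⟨K ∩ V,
      hclopen V U hV hU hUV.symm (union_comm U V ▸ hKsub), hxK, hBV ⟨hxQ, hxB⟩⟩).2⟩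

/-- All open covers refine to clopen partitions iff components have unique closed points. -/
theorem refinement_iff :
    (∀ (ι : Type u) (U : ι → Set X), (∀ i, IsOpen (U i)) → (⋃ i, U i) = univ →
      ∃ (n : ℕ) (V : Fin n → Set X), (∀ k, IsClopen (V k)) ∧
        Pairwise (fun k l => Disjoint (V k) (V l)) ∧ (⋃ k, V k) = univ ∧ ∀ k, ∃ i, V k ⊆ U i) ↔
    Function.Bijective (fun x : {x : X // IsClosed ({x} : Set X)} => ConnectedComponents.mk x.1) := by
  constructor
  · intro h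
    refine ⟨injective_closedPoint_mk fun x y hx hy hxy => ?_, surjective_closedPoint_mk⟩
    obtain ⟨n, V, hV, -, hcov, hsub⟩ := h (ULift.{u} Bool) (fun b => if b.down then {y}ᶜ else {x}ᶜ)
      (fun ⟨b⟩ => by cases b <;> simp [hx.isOpen_compl, hy.isOpen_compl])
      (eq_univ_of_forall fun z => mem_iUnion.2 (by
        by_cases hz : z = x
        · exact ⟨⟨true⟩, by simp [hz, hxy]⟩
        · exact ⟨⟨false⟩, by simp [hz]⟩))
    obtain ⟨k, hk⟩ := mem_iUnion.1 (hcov.ge (mem_univ x))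
    obtain ⟨⟨b⟩, hb⟩ := hsub k
    refine ⟨V k, hV k, hk, fun hyk => ?_⟩
    cases b
    · exact hb hk rfl
    · exact hb hyk rfl
  · intro h ι U hU hcov
    have key : ∀ x : {x : X // IsClosed ({x} : Set X)}, ∃ (K : Set X) (i : ι),
        IsClopen K ∧ x.1 ∈ K ∧ K ⊆ U i := by
      intro x
      obtain ⟨i, hi⟩ := mem_iUnion.1 (hcov.ge (mem_univ x.1))
      have hsub : (⋂ K : {K : Set X // IsClopen K ∧ x.1 ∈ K}, K.1) ⊆ U i := by
        rw [iInter_clopen_eq_connectedComponent]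
        intro y hy
        obtain ⟨z, hzc, hyz⟩ := exists_closedPoint_specializes y
        have : (⟨z, hzc⟩ : {x : X // IsClosed ({x} : Set X)}) = x := h.1 (ConnectedComponents.coe_eq_coe.2
          (connectedComponent_eq (hyz.mem_closed isClosed_connectedComponent hy)).symm)
        exact hyz.mem_open (hU i) (by rw [show z = x.1 from congrArg Subtype.val this]; exact hi)
      obtain ⟨K, hK, hxK, hKU⟩ := exists_clopen_subset (hU i) hsub
      exact ⟨K, i, hK, hxK, hKU⟩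
    choose K i hK hxK hKU using key
    obtain ⟨t, ht⟩ := isCompact_univ.elim_finite_subcover K (fun x => (hK x).isOpen) fun y _ => by
      obtain ⟨z, hzc, hyz⟩ := exists_closedPoint_specializes y
      exact mem_iUnion.2 ⟨⟨z, hzc⟩, hyz.mem_open (hK _).isOpen (hxK _)⟩
    let e := t.equivFin.symm
    refine ⟨t.card, disjointed fun k => K (e k).1, fun k => ?_, disjoint_disjointed _, ?_,
      fun k => ⟨i (e k).1, (disjointed_le _ k).trans (hKU _)⟩⟩
    · exact disjointedRec (p := IsClopen) (fun ⦃s m⦄ hs => hs.diff (hK _)) (hK _)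
    · rw [iUnion_disjointed]
      refine eq_univ_of_forall fun y => ?_
      obtain ⟨x, hx, hy⟩ := mem_iUnion₂.1 (ht (mem_univ y))
      exact mem_iUnion.2 ⟨e.symm ⟨x, hx⟩, by simpa using hy⟩

end GrothLib.SpecRefine
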